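import Cfsg.Prelude.Def_Characters
import Cfsg.Prelude.Def_Blocks
import Cfsg.Prelude.Def_Transfer
import Mathlib
import Cfsg.Agent.Lib.Chars.Completeness
import Cfsg.Agent.Lib.Chars.Integral

/-!
Irreducible characters that are nonzero on exactly two conjugacy classes (Gagola characters).
-/

set_option autoImplicit false
set_option linter.style.haveILetI false
set_option linter.unusedSectionVars false
open Cfsg
open scoped ComplexConjugate Classical

namespace Cfsg.Agent.Lib.Gagola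

variable {G : Type*} [Group G] [Finite G]

namespace CharFacts
open Cfsg.Agent.Lib.Chars

theorem finite_irr : Finite (IrrCharacter G) := inferInstance
theorem conj_invariant (χ : IrrCharacter G) (g h : G) : (χ : G → ℂ) (h * g * h⁻¹) = (χ : G → ℂ) g :=
  irr_isClassFunction χ g h
theorem deg_pos (χ : IrrCharacter G) : ∃ d : ℕ, 0 < d ∧ (χ : G → ℂ) 1 = d :=
  isIrrCharacter_exists_degree_pos χ.2

theorem orth1 [Fintype G] (χ ψ : IrrCharacter G) :
    ∑ g : G, (χ : G → ℂ) g * conj ((ψ : G → ℂ) g) = if χ = ψ then (Nat.card G : ℂ) else 0 := by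
  have h := classInner_irr χ ψ
  rw [classInner, inv_mul_eq_iff_eq_mul₀ natCard_ne_zero, mul_ite, mul_one, mul_zero] at h
  exact h

theorem orth2 [Fintype (IrrCharacter G)] (g h : G) :
   ∑ χ : IrrCharacter G, (χ : G → ℂ) g * conj ((χ : G → ℂ) h) = if IsConj g h then (Nat.card (Subgroup.centralizer ({g} : Set G)) : ℂ) else 0 := by
  haveI := Fintype.ofFinite G
  rw [show (Finset.univ : Finset (IrrCharacter G)) = @Finset.univ _ Cfsg.Agent.Lib.Chars.fintypeIrrCharacter from by ext; simp]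
  split_ifs with hc
  · exact column_orthogonality_of_isConj hc
  · exact column_orthogonality_of_not_isConj hc

theorem trivial_irr : IsIrrCharacter G (fun _ => (1 : ℂ)) := isIrrCharacter_one

theorem rho_eq_one {n : ℕ} (ρ : Representation ℂ G (Fin n → ℂ)) (g : G)
    (hg : ρ.character g = ρ.character 1) : ρ g = 1 :=
  (char_eq_finrank_iff ρ g).1 (hg.trans ρ.char_one)

theorem ker_mul (χ : IrrCharacter G) (g h : G) (hg : (χ : G → ℂ) g = (χ : G → ℂ) 1) :
    (χ : G → ℂ) (g * h) = (χ : G → ℂ) h := by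
  obtain ⟨n, ρ, -, hρ⟩ := χ.2
  rw [← hρ] at hg ⊢
  simp only [Representation.character, map_mul, rho_eq_one ρ g hg, one_mul]

/-- If the sum of an irreducible character over a normal subgroup is nonzero, the subgroup lies
in the kernel. -/
theorem mem_ker_of_sum_ne_zero (χ : IrrCharacter G) (K : Subgroup G) [K.Normal] [Fintype K]
    (hs : ∑ k : K, (χ : G → ℂ) k ≠ 0) (k : G) (hk : k ∈ K) :
    (χ : G → ℂ) k = (χ : G → ℂ) 1 := by
  obtain ⟨n, ρ, hρ, hc⟩ := χ.2
  rw [← hc] at hs ⊢
  let P : Module.End ℂ (Fin n → ℂ) := ∑ k : K, ρ k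
  have hP : ∀ g, ρ g * P = P * ρ g := by
    intro g
    simp only [P, Finset.mul_sum, Finset.sum_mul, ← map_mul]
    refine Fintype.sum_equiv (MulAut.conjNormal g).toEquiv _ _ fun k => ?_
    simp [mul_assoc]
  let f : Representation.IntertwiningMap ρ ρ := ⟨P, fun g => (hP g).symm⟩
  have htr : LinearMap.trace ℂ _ P ≠ 0 := by
    simpa [P, map_sum, Representation.character] using hs
  rcases Representation.IsIrreducible.bijective_or_eq_zero f with hf | hf
  · have h1 : ρ k * P = P := by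
      simp only [P, Finset.mul_sum, ← map_mul]
      exact Fintype.sum_equiv (Equiv.mulLeft (⟨k, hk⟩ : K)) _ _ fun j => rfl
    have : ρ k = 1 := by
      refine LinearMap.ext fun v => ?_
      obtain ⟨w, rfl⟩ := hf.2 v
      exact LinearMap.congr_fun h1 w
    simp [Representation.character, this]
  · exact absurd (by rw [show P = 0 from congrArg (fun f : Representation.IntertwiningMap ρ ρ => f.toLinearMap) hf, map_zero]) htr

/-- Averaged character values over a subgroup centralised by `x` are algebraic integers. -/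
theorem isIntegral_average (χ : IrrCharacter G) (x : G) (R : Subgroup G) [Fintype R]
    (hx : ∀ r ∈ R, Commute x r) :
    IsIntegral ℤ ((Nat.card R : ℂ)⁻¹ * ∑ r : R, (χ : G → ℂ) (x * r)) := by
  obtain ⟨n, ρ, -, hc⟩ := χ.2
  rw [← hc]
  let S : Module.End ℂ (Fin n → ℂ) := ∑ r : R, ρ r
  let P : Module.End ℂ (Fin n → ℂ) := (Nat.card R : ℂ)⁻¹ • S
  have hne : (Nat.card R : ℂ) ≠ 0 := Nat.cast_ne_zero.2 Nat.card_pos.ne'
  have hSS : S * S = (Nat.card R : ℂ) • S := by
    have h : ∀ r : R, ρ r * S = S := fun r => by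
      simp only [S, Finset.mul_sum, ← map_mul]
      exact Fintype.sum_equiv (Equiv.mulLeft r) _ _ fun j => rfl
    calc S * S = ∑ r : R, ρ r * S := by simp only [S, Finset.sum_mul]
      _ = (Nat.card R : ℂ) • S := by
        rw [Finset.sum_congr rfl fun r _ => h r, Finset.sum_const, Finset.card_univ,
          Nat.card_eq_fintype_card, Nat.cast_smul_eq_nsmul]
  have hPP : IsIdempotentElem P := by
    simp only [IsIdempotentElem, P, smul_mul_smul_comm, hSS, smul_smul]
    rw [mul_assoc, inv_mul_cancel₀ hne, mul_one]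
  have hcomm : Commute (ρ x) P := by
    refine Commute.smul_right ?_ _
    exact Commute.sum_right _ _ _ fun r _ => (hx r r.2).map ρ
  have hQ : ∀ m : ℕ, 0 < m → (ρ x * P) ^ m = ρ (x ^ m) * P := by
    intro m hm
    obtain ⟨j, rfl⟩ := Nat.exists_eq_succ_of_ne_zero hm.ne'
    rw [hcomm.mul_pow, hPP.pow_succ_eq, map_pow]
  have hQo : (ρ x * P) ^ (orderOf x + 1) = ρ x * P := by
    rw [hQ _ (Nat.succ_pos _), pow_succ, pow_orderOf_eq_one, one_mul]
  have htr : (Nat.card R : ℂ)⁻¹ * ∑ r : R, ρ.character (x * r) = LinearMap.trace ℂ _ (ρ x * P) := by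
    simp [P, S, Representation.character, Finset.mul_sum, map_sum, map_mul]
  rw [htr, Module.End.trace_eq_sum_roots_charpoly_of_splits (IsAlgClosed.splits _)]
  refine IsIntegral.multiset_sum fun μ hμ => ?_
  have hev : Module.End.HasEigenvalue (ρ x * P) μ :=
    (Module.End.hasEigenvalue_iff_isRoot_charpoly _ _).2 (Polynomial.isRoot_of_mem_roots hμ)
  obtain ⟨v, hv⟩ := hev.exists_hasEigenvector
  have hp := hv.pow_apply (orderOf x + 1)
  rw [hQo, hv.apply_eq_smul] at hp
  have hμ' : μ ^ (orderOf x + 1) = μ := (smul_left_injective ℂ hv.2 hp).symm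
  rcases eq_or_ne μ 0 with rfl | hμ0
  · exact isIntegral_zero
  · refine IsIntegral.of_pow (orderOf_pos x) ?_
    rw [pow_succ, mul_eq_right₀ hμ0] at hμ'
    rw [hμ']
    exact isIntegral_one

end CharFacts

/-- The hypothesis: `χ` is nonzero on exactly two classes and `2 < |G|`. -/
def TwoClasses (χ : IrrCharacter G) : Prop :=
  2 < Nat.card G ∧ Nat.card {C : ConjClasses G // ∃ g ∈ C.carrier, (χ : G → ℂ) g ≠ 0} = 2

theorem exists_second_class {χ : IrrCharacter G} (h : TwoClasses χ) :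
    ∃ x : G, x ≠ 1 ∧ (χ : G → ℂ) x ≠ 0 ∧ ∀ g : G, (χ : G → ℂ) g ≠ 0 → g = 1 ∨ IsConj x g := by
  obtain ⟨d, hd, hd1⟩ := CharFacts.deg_pos χ
  have h1 : (χ : G → ℂ) 1 ≠ 0 := by rw [hd1]; exact_mod_cast hd.ne'
  set T := {C : ConjClasses G // ∃ g ∈ C.carrier, (χ : G → ℂ) g ≠ 0}
  let e : T := ⟨ConjClasses.mk 1, 1, ConjClasses.mem_carrier_mk, h1⟩
  obtain ⟨y, hy, huniq⟩ := (Nat.card_eq_two_iff' e).1 h.2
  obtain ⟨x, hxC, hx⟩ := y.2
  rw [ConjClasses.mem_carrier_iff_mk_eq] at hxC
  refine ⟨x, ?_, hx, fun g hg => ?_⟩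
  · rintro rfl
    exact hy (Subtype.ext hxC.symm)
  · let z : T := ⟨ConjClasses.mk g, g, ConjClasses.mem_carrier_mk, hg⟩
    by_cases hz : z = e
    · left
      have := Subtype.ext_iff.1 hz
      exact (isConj_one_right.1 (ConjClasses.mk_eq_mk_iff_isConj.1 this).symm)
    · right
      have := Subtype.ext_iff.1 (huniq z hz)
      exact ConjClasses.mk_eq_mk_iff_isConj.1 (hxC.trans this.symm)

theorem index_centralizer_eq (x : G) :
    (Subgroup.centralizer ({x} : Set G)).index = Nat.card {g : G // IsConj x g} := by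
  have h : (Subgroup.centralizer ({x} : Set G)).index = (MulAction.stabilizer (ConjAct G) x).index := by
    rw [Subgroup.centralizer_eq_comap_stabilizer]
    exact Subgroup.index_comap_of_surjective (f := (ConjAct.toConjAct (G := G)).toMonoidHom) _
      ConjAct.toConjAct.surjective
  rw [h, MulAction.index_stabilizer,
      ConjAct.orbit_eq_carrier_conjClasses, ← Nat.card_coe_set_eq]
  exact Nat.card_congr (Equiv.subtypeEquivRight fun g => by
    rw [ConjClasses.mem_carrier_iff_mk_eq, ConjClasses.mk_eq_mk_iff_isConj]; exact isConj_comm)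

theorem card_centralizer_mul (x : G) :
    Nat.card (Subgroup.centralizer ({x} : Set G)) * Nat.card {g : G // IsConj x g} = Nat.card G := by
  rw [← index_centralizer_eq, Subgroup.card_mul_index]


/-- All the data attached to a character nonzero on exactly two classes. -/
structure Data (χ : IrrCharacter G) where
  x : G
  x_ne : x ≠ 1
  c : ℕ
  d : ℕ
  c_eq : c = Nat.card {g : G // IsConj x g}
  c_pos : 0 < c
  d_pos : 0 < d
  deg : (χ : G → ℂ) 1 = d
  val : (χ : G → ℂ) x = -((d : ℂ) / c)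
  supp : ∀ g : G, (χ : G → ℂ) g ≠ 0 ↔ g = 1 ∨ IsConj x g
  kerOther : ∀ ψ : IrrCharacter G, ψ ≠ χ → (ψ : G → ℂ) x = (ψ : G → ℂ) 1
  order : Nat.card G * c = d ^ 2 * (c + 1)

theorem sum_eq_two_terms [Fintype G] {χ : IrrCharacter G} {x : G} (hx : x ≠ 1)
    (hsupp : ∀ g : G, (χ : G → ℂ) g ≠ 0 → g = 1 ∨ IsConj x g) (f : G → ℂ)
    (hf : ∀ g, IsConj x g → f g = f x) :
    ∑ g, (χ : G → ℂ) g * f g =
      (χ : G → ℂ) 1 * f 1 + (Nat.card {g : G // IsConj x g} : ℂ) * ((χ : G → ℂ) x * f x) := by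
  have h1 : ¬ IsConj x 1 := fun h => hx (isConj_one_left.1 h)
  rw [← Finset.sum_add_sum_compl {1}, Finset.sum_singleton]
  congr 1
  rw [Nat.card_eq_fintype_card, Fintype.card_subtype, ← nsmul_eq_mul, ← Finset.sum_const]
  refine (Finset.sum_subset ?_ ?_).symm.trans (Finset.sum_congr rfl ?_)
  · intro g hg
    simp only [Finset.mem_filter, Finset.mem_univ, true_and] at hg
    simp only [Finset.mem_compl, Finset.mem_singleton]
    rintro rfl
    exact h1 hg
  · intro g hg hg'
    simp only [Finset.mem_filter, Finset.mem_univ, true_and] at hg'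
    simp only [Finset.mem_compl, Finset.mem_singleton] at hg
    have : (χ : G → ℂ) g = 0 := by
      by_contra h
      rcases hsupp g h with h | h
      · exact hg h
      · exact hg' h
    rw [this, zero_mul]
  · intro g hg
    simp only [Finset.mem_filter, Finset.mem_univ, true_and] at hg
    obtain ⟨h, rfl⟩ := isConj_iff.1 hg
    rw [hf _ hg, CharFacts.conj_invariant]

theorem nonempty_data {χ : IrrCharacter G} (h : TwoClasses χ) : Nonempty (Data χ) := by
  haveI := Fintype.ofFinite G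
  obtain ⟨x, hx1, hxne, hsupp⟩ := exists_second_class h
  obtain ⟨d, hd, hd1⟩ := CharFacts.deg_pos χ
  let c := Nat.card {g : G // IsConj x g}
  have hc : 0 < c := by
    haveI : Nonempty {g : G // IsConj x g} := ⟨⟨x, IsConj.refl x⟩⟩
    exact Nat.card_pos
  have hcx : (c : ℂ) ≠ 0 := Nat.cast_ne_zero.2 hc.ne'
  have hsupp' : ∀ g : G, (χ : G → ℂ) g ≠ 0 ↔ g = 1 ∨ IsConj x g := by
    intro g
    refine ⟨hsupp g, ?_⟩
    rintro (rfl | hg)
    · rw [hd1]; exact_mod_cast hd.ne'
    · obtain ⟨k, rfl⟩ := isConj_iff.1 hg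
      rwa [CharFacts.conj_invariant]
  let one : IrrCharacter G := ⟨fun _ => 1, CharFacts.trivial_irr⟩
  have hne : χ ≠ one := by
    intro hχ
    have hall : ∀ g : G, g ≠ 1 → IsConj x g := fun g hg =>
      ((hsupp' g).1 (by rw [hχ]; exact one_ne_zero)).resolve_left hg
    have hcn : c + 1 = Nat.card G := by
      have e : {g : G // IsConj x g} ≃ {g : G // g ≠ 1} := Equiv.subtypeEquivRight fun g =>
        ⟨fun hg h1 => hx1 (isConj_one_left.1 (h1 ▸ hg)), hall g⟩
      have h2 := Set.ncard_add_ncard_compl ({1} : Set G)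
      rw [Set.ncard_singleton, ← Nat.card_coe_set_eq] at h2
      show Nat.card {g : G // IsConj x g} + 1 = Nat.card G
      rw [Nat.card_congr e, ← h2, add_comm]
      rfl
    have hdvd : c ∣ Nat.card G := ⟨_, by rw [mul_comm]; exact (card_centralizer_mul x).symm⟩
    rw [← hcn] at hdvd
    have hc1 : c = 1 := Nat.dvd_one.1 ((Nat.dvd_add_right dvd_rfl).1 hdvd)
    have := h.1
    omega
  have hsum : (d : ℂ) + (c : ℂ) * (χ : G → ℂ) x = 0 := by
    have := CharFacts.orth1 χ one
    rw [if_neg hne] at this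
    rw [sum_eq_two_terms hx1 hsupp _ (fun g _ => rfl)] at this
    simp only [one, hd1, map_one, mul_one] at this
    exact this
  have hval : (χ : G → ℂ) x = -((d : ℂ) / c) := by
    field_simp
    linear_combination hsum
  refine ⟨⟨x, hx1, c, d, rfl, hc, hd, hd1, hval, hsupp', ?_, ?_⟩⟩
  · intro ψ hψ
    obtain ⟨e, he, he1⟩ := CharFacts.deg_pos ψ
    have := CharFacts.orth1 χ ψ
    rw [if_neg hψ.symm, sum_eq_two_terms hx1 hsupp _ (fun g hg => by
      obtain ⟨k, rfl⟩ := isConj_iff.1 hg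
      rw [CharFacts.conj_invariant]), hd1, he1, map_natCast, hval] at this
    have h2 : (d : ℂ) * ((e : ℂ) - conj ((ψ : G → ℂ) x)) = 0 := by
      rw [← this]
      field_simp
      ring
    rcases mul_eq_zero.1 h2 with h3 | h3
    · exact absurd h3 (Nat.cast_ne_zero.2 hd.ne')
    · rw [he1, ← Complex.conj_conj ((ψ : G → ℂ) x), ← sub_eq_zero.1 h3, map_natCast]
  · have := CharFacts.orth1 χ χ
    rw [if_pos rfl, sum_eq_two_terms hx1 hsupp _ (fun g hg => by
      obtain ⟨k, rfl⟩ := isConj_iff.1 hg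
      rw [CharFacts.conj_invariant]), hd1, hval] at this
    simp only [map_neg, map_div₀, map_natCast] at this
    have h2 : (Nat.card G : ℂ) * c = (d : ℂ) ^ 2 * ((c : ℂ) + 1) := by
      rw [← this]
      field_simp
      ring
    exact_mod_cast h2

variable {χ : IrrCharacter G} (D : Data χ)

namespace Data

theorem mem_iff (D : Data χ) (g : G) : ((χ : G → ℂ) g ≠ 0) ↔
    ∀ ψ : IrrCharacter G, ψ ≠ χ → (ψ : G → ℂ) g = (ψ : G → ℂ) 1 := by
  constructor
  · intro hg ψ hψ
    rcases (D.supp g).1 hg with rfl | hg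
    · rfl
    · obtain ⟨k, rfl⟩ := isConj_iff.1 hg
      rw [CharFacts.conj_invariant, D.kerOther ψ hψ]
  · intro hall
    by_cases hg1 : g = 1
    · exact (D.supp g).2 (Or.inl hg1)
    intro h0
    haveI := CharFacts.finite_irr (G := G)
    haveI := Fintype.ofFinite (IrrCharacter G)
    haveI := Fintype.ofFinite G
    have := CharFacts.orth2 g 1
    rw [if_neg (fun hc => hg1 (isConj_one_left.1 hc))] at this
    have h2 : ∑ ψ : IrrCharacter G,
        (if ψ = χ then (0 : ℝ) else ((ψ : G → ℂ) 1).re ^ 2) = 0 := by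
      have e : ((∑ ψ : IrrCharacter G, (if ψ = χ then (0 : ℝ) else ((ψ : G → ℂ) 1).re ^ 2) : ℝ) : ℂ) = 0 := by
        rw [← this, Complex.ofReal_sum]
        refine Finset.sum_congr rfl fun ψ _ => ?_
        split_ifs with hψ
        · subst hψ; simp [h0]
        · obtain ⟨e, he, he1⟩ := CharFacts.deg_pos ψ
          rw [hall ψ hψ, he1]
          simp [sq]
      exact_mod_cast e
    have hne : (⟨fun _ => 1, CharFacts.trivial_irr⟩ : IrrCharacter G) ≠ χ := by
      intro he
      exact (congrFun (congrArg Subtype.val he) g ▸ one_ne_zero : (χ : G → ℂ) g ≠ 0) h0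
    have := (Finset.sum_eq_zero_iff_of_nonneg (fun ψ _ => by split_ifs <;> positivity)).1 h2 _
      (Finset.mem_univ (⟨fun _ => 1, CharFacts.trivial_irr⟩ : IrrCharacter G))
    simp [hne] at this

def N : Subgroup G where
  carrier := {g | (χ : G → ℂ) g ≠ 0}
  one_mem' := (D.supp 1).2 (Or.inl rfl)
  mul_mem' := by
    intro g h hg hh
    simp only [Set.mem_ofPred_eq, D.mem_iff] at *
    intro ψ hψ
    rw [CharFacts.ker_mul ψ g h (hg ψ hψ), hh ψ hψ]
  inv_mem' := by
    intro g hg
    simp only [Set.mem_ofPred_eq, D.mem_iff] at *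
    intro ψ hψ
    have := CharFacts.ker_mul ψ g g⁻¹ (hg ψ hψ)
    rw [mul_inv_cancel] at this
    exact this.symm

theorem mem_N (D : Data χ) (g : G) : g ∈ D.N ↔ (χ : G → ℂ) g ≠ 0 := Iff.rfl

theorem mem_N' (D : Data χ) (g : G) : g ∈ D.N ↔ g = 1 ∨ IsConj D.x g := (D.mem_N g).trans (D.supp g)

theorem x_mem (D : Data χ) : D.x ∈ D.N := (D.mem_N' _).2 (Or.inr (IsConj.refl _))

instance normal_N (D : Data χ) : D.N.Normal :=
  ⟨fun g hg h => by rw [mem_N, CharFacts.conj_invariant]; exact hg⟩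

theorem N_ne_bot (D : Data χ) : D.N ≠ ⊥ := fun h => D.x_ne (Subgroup.mem_bot.1 (h ▸ D.x_mem))

theorem conj_N (D : Data χ) {y z : G} (hy : y ∈ D.N) (hz : z ∈ D.N) (hy1 : y ≠ 1) (hz1 : z ≠ 1) :
    ∃ g : G, g * y * g⁻¹ = z :=
  isConj_iff.1 ((((D.mem_N' y).1 hy).resolve_left hy1).symm.trans
    (((D.mem_N' z).1 hz).resolve_left hz1))

theorem minimal (D : Data χ) (K : Subgroup G) [K.Normal] (hK : K ≠ ⊥) : D.N ≤ K := by
  intro g hg
  by_cases hxK : D.x ∈ K
  · rcases (D.mem_N' g).1 hg with rfl | hg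
    · exact K.one_mem
    · obtain ⟨h, rfl⟩ := isConj_iff.1 hg
      exact Subgroup.Normal.conj_mem ‹_› _ hxK h
  exfalso
  have hKN : ∀ k ∈ K, (χ : G → ℂ) k ≠ 0 → k = 1 := by
    intro k hk hne
    refine ((D.supp k).1 hne).resolve_right fun hc => hxK ?_
    obtain ⟨h, hh⟩ := isConj_iff.1 hc.symm
    exact hh ▸ Subgroup.Normal.conj_mem ‹_› _ hk h
  haveI := Fintype.ofFinite K
  have hsum : ∑ k : K, (χ : G → ℂ) k ≠ 0 := by
    rw [Fintype.sum_eq_single (1 : K) fun k hk => by_contra fun h => hk (Subtype.ext (hKN k k.2 h)),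
      Subgroup.coe_one, D.deg]
    exact Nat.cast_ne_zero.2 D.d_pos.ne'
  refine hK ((Subgroup.eq_bot_iff_forall _).2 fun k hk => hKN k hk ?_)
  rw [CharFacts.mem_ker_of_sum_ne_zero χ K hsum k hk, D.deg]
  exact Nat.cast_ne_zero.2 D.d_pos.ne'

theorem exists_prime (D : Data χ) :
    ∃ p : ℕ, p.Prime ∧ orderOf D.x = p ∧ Cfsg.IsElementaryAbelian p D.N := by
  have ho : orderOf D.x ≠ 1 := fun h => D.x_ne (orderOf_eq_one_iff.1 h)
  let p := (orderOf D.x).minFac
  have hp : p.Prime := Nat.minFac_prime ho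
  have hy : orderOf (D.x ^ (orderOf D.x / p)) = p :=
    orderOf_pow_orderOf_div (orderOf_pos D.x).ne' (Nat.minFac_dvd _)
  have hy1 : D.x ^ (orderOf D.x / p) ≠ 1 := fun h => by
    rw [h, orderOf_one] at hy; exact hp.ne_one hy.symm
  obtain ⟨g, hg⟩ := D.conj_N (D.N.pow_mem D.x_mem _) D.x_mem hy1 D.x_ne
  have hxo : orderOf D.x = p := by
    rw [← hg]; exact ((MulAut.conj g).orderOf_eq _).trans hy
  have hpow : ∀ a ∈ D.N, a ^ p = 1 := by
    intro a ha
    rcases eq_or_ne a 1 with rfl | h1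
    · simp
    · obtain ⟨g, rfl⟩ := D.conj_N D.x_mem ha D.x_ne h1
      rw [conj_pow, ← hxo, pow_orderOf_eq_one]
      simp
  refine ⟨p, hp, hxo, ?_, hpow⟩
  haveI : Fact p.Prime := ⟨hp⟩
  have hpg : IsPGroup p D.N := fun a => ⟨1, Subtype.ext (by simpa using hpow a a.2)⟩
  haveI : Nontrivial D.N := D.N.nontrivial_iff_ne_bot.2 D.N_ne_bot
  obtain ⟨z, hz, hz1⟩ := (Subgroup.center D.N).nontrivial_iff_exists_ne_one.1 hpg.center_nontrivial
  refine IsMulCommutative.of_comm fun a b => ?_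
  rcases eq_or_ne a 1 with rfl | ha
  · simp
  obtain ⟨g, hg⟩ := D.conj_N z.2 a.2 (fun h => hz1 (Subtype.ext h)) (fun h => ha (Subtype.ext h))
  have hb : g⁻¹ * (b : G) * g ∈ D.N := by
    simpa using Subgroup.Normal.conj_mem D.normal_N _ b.2 g⁻¹
  have h := congrArg (fun v => g * v * g⁻¹)
    (congrArg Subtype.val (Subgroup.mem_center_iff.1 hz ⟨_, hb⟩))
  apply Subtype.ext
  simp only [Subgroup.coe_mul] at h ⊢
  rw [← hg]
  simpa [mul_assoc] using h.symm

theorem card_N (D : Data χ) : Nat.card D.N = D.c + 1 := by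
  have h := Set.ncard_insert_of_notMem (s := {g : G | IsConj D.x g}) (a := 1)
    (fun h => D.x_ne (isConj_one_left.1 h))
  have e : (D.N : Set G) = insert 1 {g : G | IsConj D.x g} := Set.ext fun g => D.mem_N' g
  rw [show Nat.card D.N = (D.N : Set G).ncard from (Nat.card_coe_set_eq _), e, h, D.c_eq,
    ← Nat.card_coe_set_eq]
  rfl

theorem card_cent_x (D : Data χ) :
    Nat.card (Subgroup.centralizer ({D.x} : Set G)) * D.c = Nat.card G := by
  rw [D.c_eq, card_centralizer_mul]

theorem exists_e (D : Data χ) : ∃ e : ℕ, 0 < e ∧ D.d = e * D.c ∧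
    Nat.card (Subgroup.centralizer ({D.x} : Set G)) = e ^ 2 * (D.c + 1) := by
  have h := D.order
  rw [← D.card_cent_x] at h
  have hco : Nat.Coprime (D.c ^ 2) (D.c + 1) := Nat.Coprime.pow_left 2 (by simp)
  have hdvd : D.c ^ 2 ∣ D.d ^ 2 := hco.dvd_of_dvd_mul_right ⟨_, by rw [← h]; ring⟩
  obtain ⟨e, he⟩ := (Nat.pow_dvd_pow_iff two_ne_zero).1 hdvd
  refine ⟨e, Nat.pos_of_ne_zero fun h0 => D.d_pos.ne' (by rw [he, h0, mul_zero]),
    by rw [he, mul_comm], ?_⟩
  refine Nat.eq_of_mul_eq_mul_right (pow_pos D.c_pos 2) ?_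
  calc _ = _ * D.c * D.c := by ring
    _ = D.d ^ 2 * (D.c + 1) := h
    _ = _ := by rw [he]; ring

theorem centralizer_pgroup (D : Data χ) {p : ℕ} (hp : p.Prime) (hN : IsPGroup p D.N) :
    IsPGroup p (Subgroup.centralizer ({D.x} : Set G)) := by
  haveI : Fact p.Prime := ⟨hp⟩
  obtain ⟨e, he0, hde, hZ⟩ := D.exists_e
  obtain ⟨m, hm⟩ := IsPGroup.iff_card.1 hN
  rw [D.card_N] at hm
  suffices ∀ r : ℕ, r.Prime → r ∣ e → r = p by
    obtain ⟨i, hi⟩ : ∃ i, e = p ^ i := ⟨_, Nat.eq_prime_pow_of_unique_prime_dvd he0.ne'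
      (fun {r} hr hre => this r hr hre)⟩
    exact IsPGroup.of_card (n := 2 * i + m) (by rw [hZ, hm, hi]; ring)
  intro r hr hre
  by_contra hrp
  haveI : Fact r.Prime := ⟨hr⟩
  let C := Subgroup.centralizer ({D.x} : Set G)
  let R : Sylow r C := default
  let R' : Subgroup G := (R : Subgroup C).map C.subtype
  haveI := Fintype.ofFinite R'
  have hR : ∀ y ∈ R', Commute D.x y := by
    rintro y ⟨z, -, rfl⟩
    exact Subgroup.mem_centralizer_singleton_iff.1 z.2 |>.symm
  have hcardR : Nat.card R' = r ^ (2 * e.factorization r) := by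
    rw [Subgroup.card_subtype, R.card_eq_multiplicity, hZ, hm,
      Nat.factorization_mul (pow_ne_zero _ he0.ne') (pow_ne_zero _ hp.ne_zero),
      Nat.factorization_pow, Nat.factorization_pow, hp.factorization]
    simp [Ne.symm hrp]
  have hint := CharFacts.isIntegral_average χ D.x R' hR
  have hxo : ∀ y : R', y ≠ 1 → (χ : G → ℂ) (D.x * y) = 0 := by
    intro y hy
    by_contra hne
    have hyN : (y : G) ∈ D.N := (D.N.mul_mem_cancel_left D.x_mem).1 hne
    have hyp : ∃ a, orderOf (y : G) = p ^ a := by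
      obtain ⟨a, ha⟩ := IsPGroup.iff_orderOf.1 hN ⟨y, hyN⟩
      exact ⟨a, by rw [← ha, ← Subgroup.orderOf_coe]⟩
    have hyr : ∃ b, orderOf (y : G) = r ^ b := by
      have := (R.isPGroup'.map C.subtype)
      obtain ⟨b, hb⟩ := IsPGroup.iff_orderOf.1 this y
      exact ⟨b, by rw [← hb, ← Subgroup.orderOf_coe]⟩
    obtain ⟨a, ha⟩ := hyp
    obtain ⟨b, hb⟩ := hyr
    rcases Nat.eq_zero_or_pos b with rfl | hb0
    · exact hy (Subtype.ext (orderOf_eq_one_iff.1 (by rw [hb, pow_zero])))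
    · have : r ∣ p ^ a := ha ▸ hb ▸ dvd_pow_self r hb0.ne'
      exact hrp ((Nat.prime_dvd_prime_iff_eq hr hp).1 (hr.dvd_of_dvd_pow this))
  rw [Fintype.sum_eq_single (1 : R') hxo, Subgroup.coe_one, mul_one, D.val, hde] at hint
  have hq : IsIntegral ℤ (algebraMap ℚ ℂ (-(e : ℚ) / (Nat.card R' : ℚ))) := by
    convert hint using 1
    have hc : (D.c : ℂ) ≠ 0 := Nat.cast_ne_zero.2 D.c_pos.ne'
    simp only [eq_ratCast]
    push_cast
    field_simp
  obtain ⟨z, hz⟩ := IsIntegrallyClosed.isIntegral_iff.1 ((isIntegral_algebraMap_iff (algebraMap ℚ ℂ).injective).1 hq)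
  have hdiv : Nat.card R' ∣ e := by
    rw [← Int.natCast_dvd_natCast, ← dvd_neg]
    refine ⟨z, ?_⟩
    have h0 : (Nat.card R' : ℚ) ≠ 0 := Nat.cast_ne_zero.2 Nat.card_pos.ne'
    simp only [eq_intCast] at hz
    rw [eq_div_iff h0] at hz
    exact_mod_cast (by linear_combination -hz : (-(e : ℚ)) = (Nat.card R' : ℚ) * z)
  rw [hcardR, hr.pow_dvd_iff_le_factorization he0.ne'] at hdiv
  have := hr.factorization_pos_of_dvd he0.ne' hre
  omega

theorem card_cent_eq (D : Data χ) {y : G} (hy : y ∈ D.N) (hy1 : y ≠ 1) :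
    Nat.card (Subgroup.centralizer ({y} : Set G)) * D.c = Nat.card G := by
  have hc := ((D.mem_N' y).1 hy).resolve_left hy1
  have : Nat.card {g : G // IsConj y g} = D.c := by
    rw [D.c_eq]
    exact Nat.card_congr (Equiv.subtypeEquivRight fun g => ⟨hc.trans, hc.symm.trans⟩)
  rw [← this, card_centralizer_mul]

theorem not_dvd_c (D : Data χ) {p : ℕ} (hp : p.Prime) (hN : IsPGroup p D.N) : ¬ p ∣ D.c := by
  haveI : Fact p.Prime := ⟨hp⟩
  obtain ⟨m, hm⟩ := IsPGroup.iff_card.1 hN
  rw [D.card_N] at hm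
  intro h
  rcases Nat.eq_zero_or_pos m with rfl | hm0
  · have := D.c_pos; simp at hm; omega
  · have h1 : p ∣ D.c + 1 := hm ▸ dvd_pow_self p hm0.ne'
    exact hp.ne_one (Nat.dvd_one.1 ((Nat.dvd_add_right h).1 h1))

theorem sylow_of_card_mul (D : Data χ) {p : ℕ} [Fact p.Prime] (hN : IsPGroup p D.N)
    (S : Subgroup G) (hS : Nat.card S * D.c = Nat.card G) :
    ∃ P : Sylow p G, S = P := by
  obtain ⟨k, hk⟩ := IsPGroup.iff_card.1 (D.centralizer_pgroup Fact.out hN)
  have heq : Nat.card S = p ^ k := by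
    rw [← hk]
    exact Nat.eq_of_mul_eq_mul_right D.c_pos (hS.trans D.card_cent_x.symm)
  have hidx : S.index = D.c := by
    have h := S.card_mul_index
    rw [← hS] at h
    exact Nat.eq_of_mul_eq_mul_left Nat.card_pos h
  exact ⟨(IsPGroup.of_card heq).toSylow (by rw [hidx]; exact D.not_dvd_c Fact.out hN), rfl⟩

theorem centralizer_sylow (D : Data χ) {p : ℕ} [Fact p.Prime] (hN : IsPGroup p D.N)
    {y : G} (hy : y ∈ D.N) (hy1 : y ≠ 1) :
    ∃ P : Sylow p G, Subgroup.centralizer ({y} : Set G) = P :=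
  D.sylow_of_card_mul hN _ (D.card_cent_eq hy hy1)

theorem card_inertia (D : Data χ) (μ : IrrCharacter D.N) (hμ : (μ : D.N → ℂ) ≠ fun _ => (1 : ℂ))
    (S : Subgroup G) (hS : ∀ g, g ∈ S ↔
      ∀ n n' : D.N, (n' : G) = g * n * g⁻¹ → (μ : D.N → ℂ) n' = (μ : D.N → ℂ) n) :
    Nat.card S * D.c = Nat.card G := by
  haveI := Fintype.ofFinite D.N
  letI act : MulAction G (IrrCharacter D.N) :=
    { smul := fun g ν => ⟨fun n => (ν : D.N → ℂ) (MulAut.conjNormal g⁻¹ n), by
        obtain ⟨k, ρ, hρ, hc⟩ := ν.2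
        rw [Cfsg.Agent.Lib.Chars.isIrrCharacter_iff_classInner_eq_one
          ⟨k, ρ.comp (MulAut.conjNormal g⁻¹).toMonoidHom, funext fun n => by rw [← hc]; rfl⟩]
        rw [classInner, ← Cfsg.Agent.Lib.Chars.classInner_irr_self ν, classInner]
        congr 1
        exact Fintype.sum_equiv (MulAut.conjNormal g⁻¹).toEquiv _ _ fun n => rfl⟩
      one_smul := fun ν => Subtype.ext (funext fun n => by
        show (ν : D.N → ℂ) (MulAut.conjNormal (1 : G)⁻¹ n) = _
        rw [inv_one, map_one]; rfl)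
      mul_smul := fun g h ν => Subtype.ext (funext fun n => by
        show (ν : D.N → ℂ) (MulAut.conjNormal (g * h)⁻¹ n) = (ν : D.N → ℂ) (MulAut.conjNormal h⁻¹ (MulAut.conjNormal g⁻¹ n))
        rw [mul_inv_rev, map_mul]; rfl) }
  have hsmul : ∀ (g : G) (ν : IrrCharacter D.N) (n : D.N),
      ((g • ν : IrrCharacter D.N) : D.N → ℂ) n = (ν : D.N → ℂ) (MulAut.conjNormal g⁻¹ n) :=
    fun _ _ _ => rfl
  have hstab : S = MulAction.stabilizer G μ := by
    ext g
    rw [hS, MulAction.mem_stabilizer_iff]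
    constructor
    · intro h
      refine Subtype.ext (funext fun n => ?_)
      rw [hsmul]
      exact (h (MulAut.conjNormal g⁻¹ n) n (by simp [mul_assoc])).symm
    · intro h n n' hn
      have : n = MulAut.conjNormal g⁻¹ n' := Subtype.ext (by simp [hn, mul_assoc])
      conv_rhs => rw [this]
      rw [← hsmul, h]
  subst hstab
  suffices (MulAction.orbit G μ).ncard = D.c by
    rw [← this, ← MulAction.index_stabilizer, Subgroup.card_mul_index]
  let O : Finset (IrrCharacter D.N) := Finset.univ.filter (· ∈ MulAction.orbit G μ)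
  have hO : (MulAction.orbit G μ).ncard = O.card := by
    rw [Set.ncard_eq_toFinset_card']
    congr 1
    ext; simp [O]
  rw [hO]
  have hmemO : ∀ ν, ν ∈ O ↔ ν ∈ MulAction.orbit G μ := by intro ν; simp [O]
  let f : D.N → ℂ := ∑ ν ∈ O, (ν : D.N → ℂ)
  let X : D.N := ⟨D.x, D.x_mem⟩
  have hf : ∀ n : D.N, n ≠ 1 → f n = f X := by
    intro n hn
    obtain ⟨g, hg⟩ := D.conj_N n.2 D.x_mem (fun h => hn (Subtype.ext h)) D.x_ne
    have hn' : n = MulAut.conjNormal g⁻¹ X := Subtype.ext (by simp [X, ← hg, mul_assoc])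
    simp only [f, Finset.sum_apply]
    refine Finset.sum_nbij' (fun ν => g • ν) (fun ν => g⁻¹ • ν) ?_ ?_ ?_ ?_ ?_
    · intro ν hν; rw [hmemO] at *; exact MulAction.smul_orbit_subset g μ (Set.smul_mem_smul_set hν)
    · intro ν hν; rw [hmemO] at *; exact MulAction.smul_orbit_subset g⁻¹ μ (Set.smul_mem_smul_set hν)
    · intro ν _; exact inv_smul_smul g ν
    · intro ν _; exact smul_inv_smul g ν
    · intro ν _; rw [hsmul, hn']
  obtain ⟨p, hp, -, hcomm, -⟩ := D.exists_prime
  have hlin : ∀ ν : IrrCharacter D.N, (ν : D.N → ℂ) 1 = 1 := by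
    intro ν
    obtain ⟨k, ρ, hρ, hc⟩ := ν.2
    haveI := hcomm
    rw [← hc, ρ.char_one, Representation.IsIrreducible.finrank_eq_one_of_isMulCommutative ρ,
      Nat.cast_one]
  have hf1 : f 1 = O.card := by
    simp only [f, Finset.sum_apply, hlin, Finset.sum_const, nsmul_eq_mul, mul_one]
  have hcompl : (({1}ᶜ : Finset D.N).card : ℂ) = D.c := by
    rw [Finset.card_compl, Finset.card_singleton, ← Nat.card_eq_fintype_card, D.card_N]
    simp
  let one : IrrCharacter D.N := ⟨fun _ => 1, CharFacts.trivial_irr⟩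
  have hone : one ∉ O := by
    rw [hmemO]
    rintro ⟨g, hg⟩
    apply hμ
    funext n
    have := congrFun (congrArg Subtype.val hg) (MulAut.conjNormal g n)
    simpa [hsmul, one] using this
  have h1 : (O.card : ℂ) + D.c * f X = 0 := by
    have : classInner f (fun _ : D.N => (1 : ℂ)) = 0 := by
      simp only [f, Cfsg.Agent.Lib.Chars.classInner_sum_left]
      exact Finset.sum_eq_zero fun ν hν =>
        Cfsg.Agent.Lib.Chars.classInner_irr_of_ne (χ := ν) (ψ := one) (fun h => hone (h ▸ hν))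
    rw [classInner, mul_eq_zero, inv_eq_zero] at this
    have h2 := this.resolve_left Cfsg.Agent.Lib.Chars.natCard_ne_zero
    rw [← Finset.sum_add_sum_compl {1}, Finset.sum_singleton,
      Finset.sum_congr rfl (fun n hn => by rw [hf n (by simpa using hn)]), Finset.sum_const,
      nsmul_eq_mul, hcompl] at h2
    simpa [hf1] using h2
  have h2 : (O.card : ℂ) * ((D.c : ℂ) + 1) = (O.card : ℂ) ^ 2 + D.c * (f X * conj (f X)) := by
    have : classInner f f = O.card := by
      simp only [f, Cfsg.Agent.Lib.Chars.classInner_sum_left, Cfsg.Agent.Lib.Chars.classInner_sum_right,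
        Cfsg.Agent.Lib.Chars.classInner_irr, Finset.sum_ite_eq]
      simp
    rw [classInner, inv_mul_eq_iff_eq_mul₀ Cfsg.Agent.Lib.Chars.natCard_ne_zero, D.card_N,
      ← Finset.sum_add_sum_compl {1}, Finset.sum_singleton,
      Finset.sum_congr rfl (fun n hn => by rw [hf n (by simpa using hn)]), Finset.sum_const,
      nsmul_eq_mul, hcompl, hf1, map_natCast] at this
    rw [Nat.cast_add, Nat.cast_one] at this
    linear_combination -this
  have hc : (D.c : ℂ) ≠ 0 := Nat.cast_ne_zero.2 D.c_pos.ne'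
  have hfX : f X = -((O.card : ℂ) / D.c) := by
    field_simp
    linear_combination h1
  rw [hfX, map_neg, map_div₀, map_natCast, map_natCast] at h2
  field_simp at h2
  have hO0 : (O.card : ℂ) ≠ 0 := Nat.cast_ne_zero.2
    (Finset.card_ne_zero_of_mem ((hmemO μ).2 (MulAction.mem_orbit_self μ)))
  have h3 : (O.card : ℂ) = (D.c : ℂ) := mul_left_cancel₀ hO0 (by linear_combination -h2)
  exact_mod_cast h3

theorem card_quotient_class (D : Data χ) {x : G} (hx : x ∉ D.N) :
    Nat.card (Subgroup.centralizer ({x} : Set G)) =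
      Nat.card (Subgroup.centralizer ({(x : G ⧸ D.N)} : Set (G ⧸ D.N))) := by
  haveI := CharFacts.finite_irr (G := G)
  haveI := Fintype.ofFinite (IrrCharacter G)
  have hcoset : ∀ n ∈ D.N, IsConj (n * x) x := by
    intro n hn
    by_contra hc
    have hχx : (χ : G → ℂ) x = 0 := not_not.1 hx
    have hterm : ∀ ψ : IrrCharacter G,
        (ψ : G → ℂ) (n * x) * conj ((ψ : G → ℂ) x) = (ψ : G → ℂ) x * conj ((ψ : G → ℂ) x) := by
      intro ψ
      rcases eq_or_ne ψ χ with rfl | hψ
      · simp [hχx]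
      · rw [CharFacts.ker_mul ψ n x ((D.mem_iff n).1 hn ψ hψ)]
    have h1 := CharFacts.orth2 (n * x) x
    rw [if_neg hc, Finset.sum_congr rfl (fun ψ _ => hterm ψ), CharFacts.orth2 x x, if_pos (IsConj.refl x)] at h1
    exact Nat.cast_ne_zero.2 (Nat.card_pos (α := Subgroup.centralizer ({x} : Set G))).ne' h1
  have hset : {g : G | IsConj x g} = QuotientGroup.mk ⁻¹' {q : G ⧸ D.N | IsConj (x : G ⧸ D.N) q} := by
    ext g
    constructor
    · exact fun h => (QuotientGroup.mk' D.N).map_isConj h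
    · intro h
      obtain ⟨q, hq⟩ := isConj_iff.1 h
      obtain ⟨k, rfl⟩ := QuotientGroup.mk_surjective q
      rw [← QuotientGroup.mk_inv, ← QuotientGroup.mk_mul, ← QuotientGroup.mk_mul, QuotientGroup.eq] at hq
      set y := k * x * k⁻¹ with hy
      have hn : y * (y⁻¹ * g) * y⁻¹ ∈ D.N := Subgroup.Normal.conj_mem D.normal_N _ hq y
      have hg : g = k * ((k⁻¹ * (y * (y⁻¹ * g) * y⁻¹) * k) * x) * k⁻¹ := by rw [hy]; group
      have hn' : k⁻¹ * (y * (y⁻¹ * g) * y⁻¹) * k ∈ D.N := by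
        simpa using Subgroup.Normal.conj_mem D.normal_N _ hn k⁻¹
      show IsConj x g
      rw [hg]
      exact (hcoset _ hn').symm.trans (isConj_iff.2 ⟨k, rfl⟩)
  have hcard : Nat.card {g : G // IsConj x g} =
      Nat.card D.N * Nat.card {q : G ⧸ D.N // IsConj (x : G ⧸ D.N) q} := by
    rw [show Nat.card {g : G // IsConj x g} = Nat.card {g : G | IsConj x g} from rfl, hset,
      Nat.card_congr (QuotientGroup.preimageMkEquivSubgroupProdSet D.N _), Nat.card_prod]
    rfl
  have h1 := card_centralizer_mul x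
  have h2 := card_centralizer_mul (x : G ⧸ D.N)
  rw [hcard, Subgroup.card_eq_card_quotient_mul_card_subgroup D.N, ← h2] at h1
  have hpos : 0 < Nat.card {q : G ⧸ D.N // IsConj (x : G ⧸ D.N) q} * Nat.card D.N := by
    haveI : Nonempty {q : G ⧸ D.N // IsConj (x : G ⧸ D.N) q} := ⟨⟨_, IsConj.refl _⟩⟩
    exact Nat.mul_pos Nat.card_pos Nat.card_pos
  exact Nat.eq_of_mul_eq_mul_right hpos (by linarith)

theorem no_large_pgroup (D : Data χ) {p : ℕ} [Fact p.Prime] {m j : ℕ} (hm : Nat.card D.N = p ^ m)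
    {z : G} (hz : z ∉ D.N) (hj : p ^ j ∣ Nat.card (Subgroup.centralizer ({z} : Set G))) :
    j + m ≤ (Nat.card G).factorization p := by
  rw [D.card_quotient_class hz] at hj
  have : p ^ (j + m) ∣ Nat.card G := by
    rw [pow_add, Subgroup.card_eq_card_quotient_mul_card_subgroup D.N, hm]
    exact Nat.mul_dvd_mul (hj.trans (Subgroup.card_subgroup_dvd_card _)) dvd_rfl
  exact ((Fact.out : p.Prime).pow_dvd_iff_le_factorization Nat.card_pos.ne').1 this

theorem center_le (D : Data χ) {p : ℕ} [Fact p.Prime] (hN : IsPGroup p D.N) (P : Sylow p G) :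
    (Subgroup.center ↥(P : Subgroup G)).map (P : Subgroup G).subtype ≤ D.N := by
  rintro z ⟨⟨z, hzP⟩, hz, rfl⟩
  by_contra hzN
  obtain ⟨m, hm⟩ := IsPGroup.iff_card.1 hN
  have hle : (P : Subgroup G) ≤ Subgroup.centralizer ({z} : Set G) := fun y hy =>
    Subgroup.mem_centralizer_singleton_iff.2
      (congrArg Subtype.val (Subgroup.mem_center_iff.1 hz ⟨y, hy⟩))
  have h := D.no_large_pgroup hm hzN (j := (Nat.card G).factorization p)
    (P.card_eq_multiplicity ▸ Subgroup.card_dvd_of_le hle)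
  have : m = 0 := by omega
  rw [this, pow_zero, D.card_N] at hm
  have := D.c_pos
  omega

theorem center_eq_iff (D : Data χ) {p : ℕ} [Fact p.Prime] (hN : IsPGroup p D.N) (P : Sylow p G) :
    (Subgroup.center ↥(P : Subgroup G)).map (P : Subgroup G).subtype = D.N ↔
      (P : Subgroup G).Normal := by
  have hNP : D.N ≤ (P : Subgroup G) := IsPGroup.le_sylow_of_normal hN P
  constructor
  · intro h
    have key : ∀ y ∈ D.N, y ≠ 1 → Subgroup.centralizer ({y} : Set G) = (P : Subgroup G) := by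
      intro y hy hy1
      obtain ⟨Q, hQ⟩ := D.centralizer_sylow hN hy hy1
      rw [hQ]
      refine congrArg Sylow.toSubgroup (Sylow.ext (P.3 Q.2 ?_))
      rw [← hQ]
      intro w hw
      rw [Subgroup.mem_centralizer_singleton_iff]
      rw [← h] at hy
      obtain ⟨z, hz, rfl⟩ := hy
      exact congrArg Subtype.val (Subgroup.mem_center_iff.1 hz ⟨w, hw⟩)
    refine ⟨fun w hw g => ?_⟩
    have h1 : g * D.x * g⁻¹ ∈ D.N := Subgroup.Normal.conj_mem D.normal_N _ D.x_mem g
    rw [← key _ h1 (fun e => D.x_ne (conj_eq_one_iff.1 e)), Subgroup.mem_centralizer_singleton_iff]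
    have hw' := Subgroup.mem_centralizer_singleton_iff.1
      ((key _ D.x_mem D.x_ne).symm ▸ hw : w ∈ Subgroup.centralizer ({D.x} : Set G))
    calc g * w * g⁻¹ * (g * D.x * g⁻¹) = g * (w * D.x) * g⁻¹ := by group
      _ = g * (D.x * w) * g⁻¹ := by rw [hw']
      _ = g * D.x * g⁻¹ * (g * w * g⁻¹) := by group
  · intro hPn
    refine le_antisymm (D.center_le hN P) fun y hy => ?_
    rcases eq_or_ne y 1 with rfl | hy1
    · exact Subgroup.one_mem _
    refine ⟨⟨y, hNP hy⟩, Subgroup.mem_center_iff.2 fun w => Subtype.ext ?_, rfl⟩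
    obtain ⟨Q, hQ⟩ := D.centralizer_sylow hN hy hy1
    haveI : Subsingleton (Sylow p G) := (Sylow.unique_of_normal P hPn).instSubsingleton
    have : (w : G) ∈ Subgroup.centralizer ({y} : Set G) := by
      rw [hQ, Subsingleton.elim Q P]; exact w.2
    exact Subgroup.mem_centralizer_singleton_iff.1 this

theorem exists_upperCentral (D : Data χ) {p : ℕ} [Fact p.Prime] (hN : IsPGroup p D.N)
    (P : Sylow p G) :
    ∃ i : ℕ, Subgroup.upperCentralSeries ↥(P : Subgroup G) i = D.N.subgroupOf (P : Subgroup G) := by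
  obtain ⟨m, hm⟩ := IsPGroup.iff_card.1 hN
  have hNP : D.N ≤ (P : Subgroup G) := IsPGroup.le_sylow_of_normal hN P
  haveI : Group.IsNilpotent ↥(P : Subgroup G) := P.2.isNilpotent
  obtain ⟨n, hn⟩ := Group.IsNilpotent.nilpotent ↥(P : Subgroup G)
  set Z := Subgroup.upperCentralSeries ↥(P : Subgroup G)
  by_contra hne
  simp only [not_exists] at hne
  suffices ∀ i, Z i ≤ D.N.subgroupOf (P : Subgroup G) from
    hne n (le_antisymm (this n) (hn ▸ le_top))
  intro i
  induction i with
  | zero => simp [Z]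
  | succ i ih =>
    intro z hz
    by_contra hzN
    have hlt : Nat.card (Z i) < p ^ m := by
      rw [← hm, ← Nat.card_congr (Subgroup.subgroupOfEquivOfLe hNP).toEquiv]
      refine lt_of_le_of_ne (Subgroup.card_le_of_le ih) fun he => hne i ?_
      exact Subgroup.eq_of_le_of_card_ge ih he.ge
    let C := Subgroup.centralizer ({z} : Set ↥(P : Subgroup G))
    have hcl : Nat.card {w : ↥(P : Subgroup G) // IsConj z w} ≤ Nat.card (Z i) := by
      refine Nat.card_le_card_of_injective (fun w => (⟨z * (w.1)⁻¹, ?_⟩ : Z i)) ?_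
      · obtain ⟨k, hk⟩ := isConj_iff.1 w.2
        have := (Subgroup.mem_upperCentralSeries_succ_iff).1 hz k
        rw [← hk]
        simpa [commutatorElement_def, mul_assoc] using this
      · intro a b h
        exact Subtype.ext (inv_injective (mul_left_cancel (congrArg Subtype.val h)))
    have hC := card_centralizer_mul z
    obtain ⟨j, hj⟩ := IsPGroup.iff_card.1 (P.2.to_subgroup C)
    have hmap : C.map (P : Subgroup G).subtype ≤ Subgroup.centralizer ({(z : G)} : Set G) := by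
      rintro _ ⟨w, hw, rfl⟩
      exact Subgroup.mem_centralizer_singleton_iff.2
        (congrArg Subtype.val (Subgroup.mem_centralizer_singleton_iff.1 hw))
    have hdvd := Subgroup.card_dvd_of_le hmap
    rw [Subgroup.card_subtype, hj] at hdvd
    have h := D.no_large_pgroup hm (z := (z : G)) hzN hdvd
    have hp := (Fact.out : p.Prime)
    have : Nat.card ↥(P : Subgroup G) < p ^ (j + m) := by
      rw [← hC, hj, pow_add]
      exact Nat.mul_lt_mul_of_pos_left (lt_of_le_of_lt hcl hlt) (pow_pos hp.pos j)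
    rw [P.card_eq_multiplicity] at this
    exact absurd ((Nat.pow_lt_pow_iff_right hp.one_lt).1 this) (by omega)

end Data

end Cfsg.Agent.Lib.Gagola
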